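import Cfsg.Agent.H39.Fi22C.Basic

/-!
For an involution centraliser of shape `(2 × 2^(1+8)).U₄(2).2` the involution `z` is conjugate to
neither of the other two involutions `a`, `az` of the centre of the core.
-/

set_option autoImplicit false
set_option linter.unusedSectionVars false

namespace H38.Fi22C

open H39.Fi22C

universe u v

variable {G : Type u} [Group G] {F : Type v} [Field F] [Fintype F] {z a : G}
  {J H₀ : Subgroup G} {π : ↥H₀ →* Cfsg.PSp 2 F}

local notation "CC" x => Subgroup.centralizer ({x} : Set G)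

/-- The four central involutions of the core and `1`. -/
def InW (z a p : G) : Prop := p = 1 ∨ p = z ∨ p = a ∨ p = a * z

variable (S : Setup3 z a J H₀ π)

include S

theorem z_comm {g : G} (hg : g ∈ CC z) : Commute g z :=
  Subgroup.mem_centralizer_singleton_iff.1 hg

theorem J_cent {g : G} (hg : g ∈ J) : g ∈ CC z := S.le_cent (S.J_le hg)

theorem za_comm : Commute z a := (S.a_H₀ z (S.J_le S.z_mem)).symm

theorem H₀_le_ca : H₀ ≤ CC a := fun g hg =>
  Subgroup.mem_centralizer_singleton_iff.2 (S.a_H₀ g hg).symm.eq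

theorem inW_mem {p : G} (hp : InW z a p) : p ∈ J := by
  rcases hp with rfl | rfl | rfl | rfl
  exacts [J.one_mem, S.z_mem, S.a_mem, mul_mem S.a_mem S.z_mem]

theorem inW_comm {p h : G} (hp : InW z a p) (hh : h ∈ H₀) : Commute p h := by
  have hz : Commute z h := (z_comm S (S.le_cent hh)).symm
  rcases hp with rfl | rfl | rfl | rfl
  exacts [Commute.one_left h, hz, S.a_H₀ h hh, (S.a_H₀ h hh).mul_left hz]

theorem inW_mul {p q : G} (hp : InW z a p) (hq : InW z a q) : InW z a (p * q) := by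
  have c := (za_comm S).eq
  have h1 : a * z * (a * z) = 1 := by
    calc a * z * (a * z) = a * (z * a) * z := by group
      _ = a * (a * z) * z := by rw [c]
      _ = (a * a) * (z * z) := by group
      _ = 1 := by rw [S.a_sq, S.sq, one_mul]
  have h2 : z * (a * z) = a := by rw [← mul_assoc, c, mul_assoc, S.sq, mul_one]
  have h3 : a * z * z = a := by rw [mul_assoc, S.sq, mul_one]
  have h4 : a * (a * z) = z := by rw [← mul_assoc, S.a_sq, one_mul]
  have h5 : a * z * a = z := by rw [mul_assoc, c, h4]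
  rcases hp with rfl | rfl | rfl | rfl <;> rcases hq with rfl | rfl | rfl | rfl <;>
    simp only [InW, one_mul, mul_one, S.sq, S.a_sq, c, h1, h2, h3, h4, h5, true_or, or_true]

theorem inW_inv {p : G} (hp : InW z a p) : InW z a p⁻¹ := by
  have hz : z⁻¹ = z := inv_eq_of_mul_eq_one_right S.sq
  have ha : a⁻¹ = a := inv_eq_of_mul_eq_one_right S.a_sq
  rcases hp with rfl | rfl | rfl | rfl
  · exact Or.inl inv_one
  · exact Or.inr (Or.inl hz)
  · exact Or.inr (Or.inr (Or.inl ha))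
  · exact Or.inr (Or.inr (Or.inr (by rw [mul_inv_rev, hz, ha, (za_comm S).eq])))

theorem inW_conj {p g : G} (hp : InW z a p) (hg : g ∈ CC z) : InW z a (g * p * g⁻¹) := by
  have hz : g * z * g⁻¹ = z := by rw [(z_comm S hg).eq, mul_inv_cancel_right]
  rcases hp with rfl | rfl | rfl | rfl
  · exact Or.inl (by rw [mul_one, mul_inv_cancel])
  · exact Or.inr (Or.inl hz)
  · exact Or.inr (Or.inr (S.conj_a g hg))
  · have e : g * (a * z) * g⁻¹ = (g * a * g⁻¹) * (g * z * g⁻¹) := by group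
    rw [e, hz]
    refine inW_mul S (Or.inr (Or.inr ?_)) (Or.inr (Or.inl rfl))
    exact S.conj_a g hg

/-- The elements acting trivially on the core modulo its centre. -/
def trivMod : Subgroup G where
  carrier := {g | g ∈ (CC z) ∧ ∀ j ∈ J, InW z a (g * j * g⁻¹ * j⁻¹)}
  one_mem' := ⟨Subgroup.one_mem _, fun j _ => Or.inl (by group)⟩
  mul_mem' := by
    rintro g h ⟨hg, hg'⟩ ⟨hh, hh'⟩
    refine ⟨Subgroup.mul_mem _ hg hh, fun j hj => ?_⟩
    have e : g * h * j * (g * h)⁻¹ * j⁻¹ =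
        (g * (h * j * h⁻¹ * j⁻¹) * g⁻¹) * (g * j * g⁻¹ * j⁻¹) := by group
    rw [e]
    exact inW_mul S (inW_conj S (hh' j hj) hg) (hg' j hj)
  inv_mem' := by
    rintro g ⟨hg, hg'⟩
    refine ⟨Subgroup.inv_mem _ hg, fun j hj => ?_⟩
    have hj' : g⁻¹ * j * g ∈ J := by simpa using S.conj_mem g⁻¹ (Subgroup.inv_mem _ hg) j hj
    have e : g⁻¹ * j * g⁻¹⁻¹ * j⁻¹ = (g * (g⁻¹ * j * g) * g⁻¹ * (g⁻¹ * j * g)⁻¹)⁻¹ := by group
    rw [e]
    exact inW_inv S (hg' _ hj')

theorem trivMod_conj {g x : G} (hg : g ∈ trivMod S) (hx : x ∈ CC z) :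
    x * g * x⁻¹ ∈ trivMod S := by
  refine ⟨Subgroup.mul_mem _ (Subgroup.mul_mem _ hx hg.1) (Subgroup.inv_mem _ hx), fun j hj => ?_⟩
  have hj' : x⁻¹ * j * x ∈ J := by simpa using S.conj_mem x⁻¹ (Subgroup.inv_mem _ hx) j hj
  have e : x * g * x⁻¹ * j * (x * g * x⁻¹)⁻¹ * j⁻¹ =
      x * (g * (x⁻¹ * j * x) * g⁻¹ * (x⁻¹ * j * x)⁻¹) * x⁻¹ := by group
  rw [e]
  exact inW_conj S (hg.2 _ hj') hx

theorem not_abelian : ∃ p : Cfsg.PSp 2 F, ∃ q, p * q ≠ q * p := by
  by_contra! h
  haveI := S.simple_psp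
  letI : CommGroup (Cfsg.PSp 2 F) := { (inferInstance : Group (Cfsg.PSp 2 F)) with mul_comm := h }
  have hp := IsSimpleGroup.prime_card (α := Cfsg.PSp 2 F)
  rw [S.card_psp] at hp
  norm_num at hp

theorem trivMod_le {g : G} (hg : g ∈ trivMod S) : g ∈ J := by
  classical
  haveI := S.simple_psp
  set K : Subgroup ↥H₀ := (trivMod S).subgroupOf H₀ with hK
  have hKn : K.Normal := ⟨fun k hk x => trivMod_conj S hk (S.le_cent x.2)⟩
  rcases (IsSimpleGroup.eq_bot_or_eq_top_of_normal (K.map π) (hKn.map π S.π_surj)) with h | h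
  · have hin : ∀ k : G, k ∈ trivMod S → k ∈ H₀ → k ∈ J := fun k hk hk0 => by
      have : π ⟨k, hk0⟩ ∈ K.map π := Subgroup.mem_map_of_mem π hk
      rw [h, Subgroup.mem_bot] at this
      exact (S.π_ker ⟨k, hk0⟩).1 this
    refine hin g hg (S.inner g hg.1 fun h hh => hin _ ?_ ?_)
    · have e : g * h * g⁻¹ * h⁻¹ = g * (h * g⁻¹ * h⁻¹) := by group
      rw [e]
      exact mul_mem hg (trivMod_conj S (inv_mem hg) (S.le_cent hh))
    · exact mul_mem (S.conj_H₀ g hg.1 h hh) (inv_mem hh)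
  · exfalso
    obtain ⟨p, q, hpq⟩ := not_abelian S
    obtain ⟨x, hx, rfl⟩ : p ∈ K.map π := h ▸ Subgroup.mem_top p
    obtain ⟨y, hy, rfl⟩ : q ∈ K.map π := h ▸ Subgroup.mem_top q
    apply hpq
    have hj : ((y * x)⁻¹ * (x * y) : ↥H₀).1 ∈ J := by
      refine S.self_cent _ (S.le_cent ((y * x)⁻¹ * (x * y) : ↥H₀).2) fun j hj => ?_
      have hα : InW z a ((x : G) * j * (x : G)⁻¹ * j⁻¹) := hx.2 j hj
      have hβ : InW z a ((y : G) * j * (y : G)⁻¹ * j⁻¹) := hy.2 j hj
      set α := (x : G) * j * (x : G)⁻¹ * j⁻¹ with hαd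
      set β := (y : G) * j * (y : G)⁻¹ * j⁻¹ with hβd
      have e1 : (x : G) * (y : G) * j = β * α * j * ((x : G) * y) := by
        have : (x : G) * β * (x : G)⁻¹ = β := by
          rw [← (inW_comm S hβ x.2).eq, mul_inv_cancel_right]
        conv_rhs => rw [← this]
        rw [hαd, hβd]; group
      have e2 : (y : G) * (x : G) * j = α * β * j * ((y : G) * x) := by
        have : (y : G) * α * (y : G)⁻¹ = α := by
          rw [← (inW_comm S hα y.2).eq, mul_inv_cancel_right]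
        conv_rhs => rw [← this]
        rw [hαd, hβd]; group
      have eq : β * α = α * β := (inW_comm S hβ (S.J_le (inW_mem S hα))).eq
      rw [eq] at e1
      show (((y : G) * x)⁻¹ * ((x : G) * y)) * j = j * (((y : G) * x)⁻¹ * ((x : G) * y))
      have e3 : α * β * j = (y : G) * x * j * ((y : G) * x)⁻¹ :=
        eq_mul_inv_of_mul_eq e2.symm
      rw [mul_assoc, e1, e3]
      group
    have h1 := (S.π_ker _).2 hj
    rw [map_mul, map_inv, inv_mul_eq_one, map_mul, map_mul] at h1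
    exact h1.symm

/-- A normal 2-subgroup of `H₀` lies in the core. -/
theorem le_J_of_normalised [Finite G] (P : Subgroup G) (hP : P ≤ H₀)
    (hn : ∀ h ∈ H₀, ∀ p ∈ P, h * p * h⁻¹ ∈ P) (h2 : IsPGroup 2 P) : P ≤ J := by
  haveI := S.simple_psp
  set K : Subgroup ↥H₀ := P.subgroupOf H₀
  have hKn : K.Normal := ⟨fun k hk x => hn x x.2 k hk⟩
  rcases (IsSimpleGroup.eq_bot_or_eq_top_of_normal (K.map π) (hKn.map π S.π_surj)) with h | h
  · intro p hp
    have : π ⟨p, hP hp⟩ ∈ K.map π := Subgroup.mem_map_of_mem π hp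
    rw [h, Subgroup.mem_bot] at this
    exact (S.π_ker ⟨p, hP hp⟩).1 this
  · exfalso
    haveI : Fact (Nat.Prime 2) := ⟨Nat.prime_two⟩
    have hK2 : IsPGroup 2 K := h2.of_equiv (Subgroup.subgroupOfEquivOfLe hP).symm
    obtain ⟨n, hn'⟩ := IsPGroup.iff_card.1 (hK2.map π)
    rw [h, Subgroup.card_top, S.card_psp] at hn'
    have h3 : 3 ∣ 2 ^ n := hn' ▸ by norm_num
    have := Nat.Prime.dvd_of_dvd_pow Nat.prime_three h3
    omega

theorem isPGroup_J [Finite G] : IsPGroup 2 J :=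
  IsPGroup.of_card S.card_J

/-- An element normalising the core fixes `z`. -/
theorem conj_z_of_normalises {g : G} (hg : ∀ j ∈ J, g * j * g⁻¹ ∈ J) : g * z * g⁻¹ = z := by
  classical
  obtain ⟨p, hp, q, hq, hne⟩ : ∃ p ∈ J, ∃ q ∈ J, ¬ Commute p q := by
    by_contra! h
    have hle : (J : Set G) ⊆ ↑({1, z, a, a * z} : Finset G) := fun p hp => by
      rcases S.center p hp (fun q hq => h p hp q hq) with rfl | rfl | rfl | rfl <;> simp
    have h1 := Set.ncard_le_ncard hle (Finset.finite_toSet _)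
    rw [Set.ncard_coe_finset, ← Nat.card_coe_set_eq] at h1
    have h2 : Nat.card (J : Set G) = 2 ^ 10 := S.card_J
    have h3 : ({1, z, a, a * z} : Finset G).card ≤ 4 := Finset.card_le_four
    omega
  have e : p * q = q * p * z := (S.comm_mem p hp q hq).resolve_left hne
  have e' : (g * p * g⁻¹) * (g * q * g⁻¹) =
      (g * q * g⁻¹) * (g * p * g⁻¹) * (g * z * g⁻¹) := by
    rw [show (g * p * g⁻¹) * (g * q * g⁻¹) = g * (p * q) * g⁻¹ by group, e]; group
  rcases S.comm_mem _ (hg p hp) _ (hg q hq) with h | h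
  · rw [h] at e'
    have : g * z * g⁻¹ = 1 := left_eq_mul.1 e'
    exact absurd (conj_eq_one_iff.1 this) S.ne_one
  · rw [h] at e'
    exact (mul_left_cancel e').symm

/-- The data for the third involution. -/
theorem setup_az : Setup3 z (a * z) J H₀ π where
  card_F := S.card_F
  sq := S.sq
  ne_one := S.ne_one
  a_sq := by
    calc a * z * (a * z) = a * (z * a) * z := by group
      _ = a * (a * z) * z := by rw [(za_comm S).eq]
      _ = (a * a) * (z * z) := by group
      _ = 1 := by rw [S.a_sq, S.sq, one_mul]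
  a_out := by
    refine ⟨fun h => S.a_out.2 ?_, fun h => S.a_out.1 ?_⟩
    · rw [eq_inv_of_mul_eq_one_left h, inv_eq_of_mul_eq_one_right S.sq]
    · exact mul_eq_right.1 h
  le_cent := S.le_cent
  J_le := S.J_le
  z_mem := S.z_mem
  a_mem := mul_mem S.a_mem S.z_mem
  a_H₀ := fun g hg => inW_comm S (Or.inr (Or.inr (Or.inr rfl))) hg
  card_J := S.card_J
  conj_mem := S.conj_mem
  conj_H₀ := S.conj_H₀
  conj_a := fun g hg => by
    have hz : g * z * g⁻¹ = z := by rw [(z_comm S hg).eq, mul_inv_cancel_right]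
    have e : g * (a * z) * g⁻¹ = (g * a * g⁻¹) * (g * z * g⁻¹) := by group
    rw [e, hz]
    rcases S.conj_a g hg with h | h <;> rw [h]
    · exact Or.inl rfl
    · exact Or.inr rfl
  out_mul := S.out_mul
  sq_mem := S.sq_mem
  comm_mem := S.comm_mem
  center := fun p hp h => by
    have e : a * z * z = a := by rw [mul_assoc, S.sq, mul_one]
    rw [e]
    rcases S.center p hp h with h | h | h | h <;> simp [h]
  self_cent := S.self_cent
  inner := S.inner
  π_surj := S.π_surj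
  π_ker := S.π_ker
  core := S.core
  card_cent := S.card_cent
  card_H₀ := S.card_H₀
  card_psp := S.card_psp
  simple_psp := S.simple_psp

/-- `z` is not conjugate to `a`. -/
theorem not_conj_za [Finite G] (g : G) : g * z * g⁻¹ ≠ a := by
  classical
  intro hg
  have hmem : ∀ x : G, x ∈ (CC z) ↔ g * x * g⁻¹ ∈ CC a := by
    intro x
    rw [Subgroup.mem_centralizer_singleton_iff, Subgroup.mem_centralizer_singleton_iff, ← hg]
    constructor
    · intro h
      calc g * x * g⁻¹ * (g * z * g⁻¹) = g * (x * z) * g⁻¹ := by group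
        _ = g * (z * x) * g⁻¹ := by rw [h]
        _ = g * z * g⁻¹ * (g * x * g⁻¹) := by group
    · intro h
      have e : g * (x * z) * g⁻¹ = g * (z * x) * g⁻¹ := by
        calc g * (x * z) * g⁻¹ = g * x * g⁻¹ * (g * z * g⁻¹) := by group
          _ = g * z * g⁻¹ * (g * x * g⁻¹) := h
          _ = g * (z * x) * g⁻¹ := by group
      simpa using e
  have hmap : (CC z).map (MulAut.conj g).toMonoidHom = CC a := by
    ext y
    constructor
    · rintro ⟨x, hx, rfl⟩
      exact (hmem x).1 hx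
    · intro hy
      exact ⟨g⁻¹ * y * g, (hmem _).2 (by simpa [mul_assoc] using hy), by simp [mul_assoc]⟩
  have hcard : Nat.card (CC a) = Nat.card (CC z) := by
    rw [← hmap]
    exact (Nat.card_congr ((CC z).equivMapOfInjective _
      (MulAut.conj g).injective).toEquiv).symm
  have hidx : (H₀.subgroupOf (CC a)).index = 2 := by
    have h := (H₀.subgroupOf (CC a)).card_mul_index
    rw [Nat.card_congr (Subgroup.subgroupOfEquivOfLe (H₀_le_ca S)).toEquiv, S.card_H₀, hcard,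
      S.card_cent] at h
    omega
  have hnorm := Subgroup.normal_of_index_eq_two hidx
  have hcz : ∀ x ∈ (CC a), x ∈ CC z := fun x hx => by
    have hH : ∀ h ∈ H₀, x * h * x⁻¹ ∈ H₀ := fun h hh =>
      hnorm.conj_mem ⟨h, H₀_le_ca S hh⟩ hh ⟨x, hx⟩
    have hH' : ∀ h ∈ H₀, x⁻¹ * h * x ∈ H₀ := fun h hh => by
      simpa [Subgroup.mem_subgroupOf] using
        hnorm.conj_mem ⟨h, H₀_le_ca S hh⟩ hh ⟨x⁻¹, Subgroup.inv_mem _ hx⟩
    have hle : J.map (MulAut.conj x).toMonoidHom ≤ J := by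
      refine le_J_of_normalised S _ ?_ ?_ ((isPGroup_J S).map _)
      · rintro _ ⟨j, hj, rfl⟩
        exact hH j (S.J_le hj)
      · rintro h hh _ ⟨j, hj, rfl⟩
        refine ⟨(x⁻¹ * h * x) * j * (x⁻¹ * h * x)⁻¹,
          S.conj_mem _ (S.le_cent (hH' h hh)) j hj, ?_⟩
        simp [mul_assoc]
    have := conj_z_of_normalises S (g := x) fun j hj => hle ⟨j, hj, rfl⟩
    rw [mul_inv_eq_iff_eq_mul] at this
    exact Subgroup.mem_centralizer_singleton_iff.2 this
  have heq : (CC a) = CC z := Subgroup.eq_of_le_of_card_ge hcz hcard.ge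
  refine S.a_out.2 (hg.symm.trans (conj_z_of_normalises S ?_))
  set P := J.map (MulAut.conj g).toMonoidHom with hP
  have hPC : ∀ p ∈ P, p ∈ CC z := by
    rintro _ ⟨j, hj, rfl⟩
    rw [← heq]
    exact (hmem j).1 (J_cent S hj)
  have hPn : ∀ x ∈ (CC z), ∀ p ∈ P, x * p * x⁻¹ ∈ P := by
    rintro x hx _ ⟨j, hj, rfl⟩
    refine ⟨(g⁻¹ * x * g) * j * (g⁻¹ * x * g)⁻¹, S.conj_mem _ ((hmem _).2 ?_) j hj, by
      simp [mul_assoc]⟩
    rw [heq]
    simpa [mul_assoc] using hx
  have hle : P ⊓ H₀ ≤ J := le_J_of_normalised S _ inf_le_right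
    (fun h hh p hp => Subgroup.mem_inf.2 ⟨hPn h (S.le_cent hh) p hp.1,
      mul_mem (mul_mem hh hp.2) (inv_mem hh)⟩)
    (((isPGroup_J S).map _).to_le inf_le_left)
  intro j hj
  have hp : g * j * g⁻¹ ∈ P := ⟨j, hj, rfl⟩
  refine hle (Subgroup.mem_inf.2 ⟨hp, S.inner _ (hPC _ hp) fun h hh =>
    hle (Subgroup.mem_inf.2 ⟨?_, ?_⟩)⟩)
  · have e : g * j * g⁻¹ * h * (g * j * g⁻¹)⁻¹ * h⁻¹ =
        (g * j * g⁻¹) * (h * (g * j * g⁻¹)⁻¹ * h⁻¹) := by group
    rw [e]
    exact mul_mem hp (hPn h (S.le_cent hh) _ (inv_mem hp))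
  · exact mul_mem (S.conj_H₀ _ (hPC _ hp) h hh) (inv_mem hh)

/-- `z` is not conjugate to `az`. -/
theorem not_conj_zaz [Finite G] (g : G) : g * z * g⁻¹ ≠ a * z :=
  not_conj_za (setup_az S) g

end H38.Fi22C
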