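import Cfsg.Agent.H38.Fi22C.Dich
import Cfsg.Agent.H20.Fi22C.Setup
import Cfsg.Agent.H35.Fi22C.EndN
import Cfsg.Agent.H50.Fi22C.Module

/-!
The statement S3232 from its remaining modules: weak closure in the dead cases, isolation of a live
involution without swap, the live swap case and the case with fixed dimensions.
-/

set_option autoImplicit false
set_option linter.unusedSectionVars false

namespace H38.Fi22C

open H39.Fi22C H38.U6C Cfsg

universe u v w

variable {G : Type u} [Group G] [Finite G] {F : Type v} [Field F] [Fintype F] {z a : G}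
  {J H₀ : Subgroup G} {π : ↥H₀ →* Cfsg.PSp 2 F} {φ : G → V}
  {ρ : ↥(Subgroup.centralizer ({z} : Set G)) →* Equiv.Perm V}

/-- The natural coordinates for the third involution. -/
theorem natJ_az (S : Setup3 z a J H₀ π) (N : NatJ z a J H₀ φ ρ) :
    NatJ z (a * z) J H₀ φ ρ := by
  have T := setup_az S
  have he : a * z * z = a := by rw [mul_assoc, S.sq, mul_one]
  exact
    { range₀ := N.range₀
      lin_of_mem := N.lin_of_mem
      anti_of_not_mem := N.anti_of_not_mem
      toCore :=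
        { z_sq := N.toCore.z_sq
          z_ne := N.toCore.z_ne
          a_mem := T.a_mem
          z_mem := N.toCore.z_mem
          le_cent := N.toCore.le_cent
          a_comm := fun j hj => T.a_H₀ j (S.J_le hj)
          a_sq := T.a_sq
          a_out := T.a_out
          card_J := N.toCore.card_J
          conj_mem := N.toCore.conj_mem
          φ_mul := N.toCore.φ_mul
          φ_surj := N.toCore.φ_surj
          φ_ker := fun p hp => by
            rw [N.toCore.φ_ker p hp, he]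
            tauto
          φ_sq := N.toCore.φ_sq
          φ_comm := N.toCore.φ_comm
          ρ_φ := N.toCore.ρ_φ
          ρ_ker := N.toCore.ρ_ker
          lin_or_anti := N.toCore.lin_or_anti } }

/-- An involution `x` of the centre of the core gives the data of the second alternative. -/
theorem alt_two {K : Type w} [Field K] [Fintype K] (S : Setup3 z a J H₀ π) (hns : NoSwap z a)
    (h : AltTwo K a) :
    ∃ z₁ : G, orderOf z₁ = 2 ∧ z₁ ∉ Subgroup.zpowers z ∧
      (∃ h₁ : z₁ ∈ Subgroup.centralizer ({z} : Set G),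
        (⟨z₁, h₁⟩ : ↥(Subgroup.centralizer ({z} : Set G))) ∈
          Cfsg.pCore 2 ↥(Subgroup.centralizer ({z} : Set G)) ∧
        ∀ j ∈ Cfsg.pCore 2 ↥(Subgroup.centralizer ({z} : Set G)),
          j * ⟨z₁, h₁⟩ = ⟨z₁, h₁⟩ * j) ∧ (Subgroup.zpowers z₁).Normal ∧
      ∃ (G₀ : Subgroup G) (hz₁ : z₁ ∈ G₀), G₀.index = 2 ∧
        ∃ hn : ((Subgroup.zpowers z₁).subgroupOf G₀).Normal,
          Nonempty ((↥G₀ ⧸ (Subgroup.zpowers z₁).subgroupOf G₀) ≃* Cfsg.PSU 6 K 2) := by
  haveI : Fact (Nat.Prime 2) := ⟨Nat.prime_two⟩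
  refine ⟨a, orderOf_eq_prime (by rw [pow_two, S.a_sq]) S.a_out.1, ?_,
    ⟨J_cent S S.a_mem, ?_, fun j _ => Subtype.ext (hns j j.2).eq⟩, h.1, h.2⟩
  · rintro ⟨k, hk⟩
    have hk' : z ^ k = a := hk
    rcases Int.even_or_odd' k with ⟨m, rfl | rfl⟩
    · rw [zpow_mul, zpow_ofNat, pow_two, S.sq, one_zpow] at hk'
      exact S.a_out.1 hk'.symm
    · rw [zpow_add, zpow_mul, zpow_ofNat, pow_two, S.sq, one_zpow, one_mul, zpow_one] at hk'
      exact S.a_out.2 hk'.symm
  · have h1 := S.a_mem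
    rw [S.core] at h1
    obtain ⟨x, hx, hxa⟩ := h1
    exact (show x = ⟨a, J_cent S S.a_mem⟩ from Subtype.ext hxa) ▸ hx

/-- S3232 from the modules. -/
theorem of_parts (hSD : SwapDeadStmt.{u, v}) (hND : NoSwapDeadStmt.{u, v})
    (hNL : NoSwapLiveStmt.{u, v, w}) (hLS : LiveSwapStmt.{u, v, w}) (hFW : FixWCStmt.{u, v})
    {K : Type w} [Field K] [Fintype K] (hK : Fintype.card K = 4) (z : G) (hz : orderOf z = 2)
    (hF : Fintype.card F = 3)
    (A E : Subgroup ↥(Subgroup.centralizer ({z} : Set G)))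
    (hAE : Cfsg.IsInternalDirectProduct A E
      (Cfsg.pCore 2 ↥(Subgroup.centralizer ({z} : Set G))))
    (hA : Nat.card ↥A = 2) (hE : Cfsg.IsExtraspecial 2 ↥E) (hEc : Nat.card ↥E = 2 ^ 9)
    (zc : ↥(Subgroup.centralizer ({z} : Set G))) (hzc : (zc : G) = z)
    (hJ' : ⁅(Cfsg.pCore 2 ↥(Subgroup.centralizer ({z} : Set G))),
      (Cfsg.pCore 2 ↥(Subgroup.centralizer ({z} : Set G)))⁆ = Subgroup.zpowers zc)
    (hCJ : Subgroup.centralizer ((Cfsg.pCore 2 ↥(Subgroup.centralizer ({z} : Set G))) :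
      Set ↥(Subgroup.centralizer ({z} : Set G))) ≤
        Cfsg.pCore 2 ↥(Subgroup.centralizer ({z} : Set G)))
    [hJn : (Cfsg.pCore 2 ↥(Subgroup.centralizer ({z} : Set G))).Normal]
    (e : (↥(Subgroup.centralizer ({z} : Set G)) ⧸
      Cfsg.pCore 2 ↥(Subgroup.centralizer ({z} : Set G))) ≃* MulAut (Cfsg.PSp 2 F)) :
    Subgroup.centralizer ({z} : Set G) ⊔ Cfsg.oddCore G = ⊤ ∨
      (∃ z₁ : G, orderOf z₁ = 2 ∧ z₁ ∉ Subgroup.zpowers z ∧
        (∃ h₁ : z₁ ∈ Subgroup.centralizer ({z} : Set G),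
          (⟨z₁, h₁⟩ : ↥(Subgroup.centralizer ({z} : Set G))) ∈
            Cfsg.pCore 2 ↥(Subgroup.centralizer ({z} : Set G)) ∧
          ∀ j ∈ Cfsg.pCore 2 ↥(Subgroup.centralizer ({z} : Set G)),
            j * ⟨z₁, h₁⟩ = ⟨z₁, h₁⟩ * j) ∧ (Subgroup.zpowers z₁).Normal ∧
        ∃ (G₀ : Subgroup G) (hz₁ : z₁ ∈ G₀), G₀.index = 2 ∧
          ∃ hn : ((Subgroup.zpowers z₁).subgroupOf G₀).Normal,
            Nonempty ((↥G₀ ⧸ (Subgroup.zpowers z₁).subgroupOf G₀) ≃* Cfsg.PSU 6 K 2)) ∨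
      Cfsg.Spor.IsoFi22 G := by
  obtain ⟨a, J, H₀, π, S⟩ := H20.Fi22C.exists_setup3 z hz hF A E hAE hA hE hEc zc hzc hJ' hCJ e
  have hwc : WC z → Subgroup.centralizer ({z} : Set G) ⊔ Cfsg.oddCore G = ⊤ := mul_core_of_wc hz
  rcases H50.Fi22C.moduleJ S with ⟨φ, ρ, N⟩ | ⟨U, hU⟩
  swap
  · exact Or.inl <| hwc (hFW S hU)
  by_cases hsw : Swap z a
  · rcases dichS K hK S hsw with hd | hl
    · exact Or.inl <| hwc (hSD S N hsw hd)
    · exact Or.inr (Or.inr (hLS K hK S hsw hl))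
  have hns : NoSwap z a := fun g hg => by
    rcases S.conj_a g hg with h | h
    · exact mul_inv_eq_iff_eq_mul.1 h
    · exact absurd ⟨g, hg, h⟩ hsw
  have hns' : NoSwap z (a * z) := fun g hg => (hns g hg).mul_right (z_comm S hg)
  rcases dichN K hK S hns with hd | hl
  · rcases dichN K hK (setup_az S) hns' with hd' | hl'
    · exact Or.inl <| hwc (hND S N hns hd hd')
    · exact Or.inr (Or.inl (alt_two (setup_az S) hns' (H35.Fi22C.endN K hK (setup_az S) hns' hl'
        (hNL K hK (setup_az S) (natJ_az S N) hns' hl'))))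
  · exact Or.inr (Or.inl (alt_two S hns (H35.Fi22C.endN K hK S hns hl
      (hNL K hK S N hns hl))))

end H38.Fi22C
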