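import Cfsg.Agent.H38.Fi22C.Quot
import Cfsg.Agent.H38.U6C.FixedDirect
import Cfsg.Agent.H50.U6C.Main
import Cfsg.Agent.H55.U6C.NatWcj
import Cfsg.Agent.H2.U6E.Main
import Cfsg.Agent.H64.U6E.Main
import Cfsg.Agent.H46.U6C.Fix8Main

/-!
The two dichotomies for the centraliser of `a` modulo `⟨a⟩`: either `z` is isolated there or the
quotient is the unitary group in dimension six, extended by two if nothing exchanges `a` and `az`.
-/

set_option autoImplicit false
set_option linter.unusedSectionVars false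

namespace H38.Fi22C

open H39.Fi22C H38.U6C H2.U6E

universe u v w

section core

variable {Q : Type u} [Group Q] [Finite Q] {F : Type v} [Field F] [Fintype F] {z : Q}

/-- The recognition from the data in the group. -/
theorem of_base {J : Subgroup Q} {π : ↥(Subgroup.centralizer ({z} : Set Q)) →* Cfsg.PSp 2 F}
    (hB : H38.U6C.Base z J π) {K : Type w} [Field K] [Fintype K] (hK : Fintype.card K = 4) :
    WC z ∨ Nonempty (Q ≃* Cfsg.PSU 6 K 2) := by
  by_cases hwc : WC z
  · exact Or.inl hwc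
  rcases H50.U6C.module_dichotomy hB with ⟨φ, ρ, hN⟩ | ⟨U, hU⟩
  · obtain ⟨pt, hL⟩ := H38.U6C.locStmt hN (H55.U6C.wcj hN) hwc
    obtain ⟨-, F', f1, f2, hF', ⟨iso⟩⟩ := H24.U6.recognition hL
    obtain ⟨iso'⟩ := psu_congr hF' hK
    exact Or.inr ⟨iso.trans iso'⟩
  · exact absurd (H38.U6C.fixedDirect hB hU) hwc

variable {J H₀ : Subgroup Q} {π : ↥H₀ →* Cfsg.PSp 2 F}

/-- Isolation in the half gives isolation. -/
theorem wc_of_half (S : H2.U6E.Setup z J H₀ π) {G₀ : Subgroup Q}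
    (hi : G₀ ⊓ Subgroup.centralizer ({z} : Set Q) = H₀) (hidx : G₀.index = 2)
    (h : WC (⟨z, z_mem_half S hi⟩ : ↥G₀)) : WC z := by
  intro x hx hzx
  obtain ⟨g, rfl⟩ := isConj_iff.1 hzx
  have hn : G₀.Normal := Subgroup.normal_of_index_eq_two hidx
  have hx0 : g * z * g⁻¹ ∈ G₀ := hn.conj_mem z (z_mem_half S hi) g
  obtain ⟨g₀, hg₀, he⟩ : ∃ g₀ ∈ G₀, g₀ * z * g₀⁻¹ = g * z * g⁻¹ := by
    by_cases hg : g ∈ G₀
    · exact ⟨g, hg, rfl⟩
    obtain ⟨o, hoC, hoH⟩ : ∃ o ∈ Subgroup.centralizer ({z} : Set Q), o ∉ H₀ := by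
      by_contra! hc
      have := Subgroup.card_le_of_le (show Subgroup.centralizer ({z} : Set Q) ≤ H₀ from hc)
      rw [S.card_cent, S.card_H₀] at this
      norm_num at this
    refine ⟨g * o, (Subgroup.mul_mem_iff_of_index_two hidx).2
      ⟨fun h' => absurd h' hg, fun h' => absurd (mem_h0 hi h' hoC) hoH⟩, ?_⟩
    have e : g * o * z * (g * o)⁻¹ = g * (o * z * o⁻¹) * g⁻¹ := by group
    rw [e, Subgroup.mem_centralizer_singleton_iff.1 hoC, mul_inv_cancel_right]
  exact congrArg Subtype.val (h ⟨_, hx0⟩ (mem_cent_half _ hx)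
    (isConj_iff.2 ⟨⟨g₀, hg₀⟩, Subtype.ext he⟩))

/-- The recognition of the extension from the data in the group. -/
theorem of_setup (S : H2.U6E.Setup z J H₀ π) {K : Type w} [Field K] [Fintype K]
    (hK : Fintype.card K = 4) : WC z ∨ ∃ G₀ : Subgroup Q, G₀.index = 2 ∧
      G₀ ⊓ Subgroup.centralizer ({z} : Set Q) = H₀ ∧ Nonempty (↥G₀ ≃* Cfsg.PSU 6 K 2) := by
  rcases ext_dichotomy S with ⟨φ, ρ, X, σ, γ, hp, t, c, ht, hc⟩ | ⟨U, hU⟩
  · have hw := H33.U6E.wcjTwo X
    obtain ⟨G₀, hidx, hi⟩ := H39.U6E.indexTwo X hw σ γ hp t c ht hc fun x hx =>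
      H33.U6E.ckill X hw σ γ hp t c x ht hc hx
    by_cases hwc : WC (⟨z, z_mem_half S hi⟩ : ↥G₀)
    · exact Or.inl (wc_of_half S hi hidx hwc)
    · obtain ⟨pt, hL⟩ := H38.U6C.locStmt (nat_half S hi X) (wcj_half S hi hw) hwc
      obtain ⟨-, F', f1, f2, hF', ⟨iso⟩⟩ := H24.U6.recognition hL
      obtain ⟨iso'⟩ := psu_congr hF' hK
      exact Or.inr ⟨G₀, hidx, hi, ⟨iso.trans iso'⟩⟩
  · obtain ⟨G₀, hidx, hi⟩ := H64.U6E.indexTwoFixed H46.U6C.fix8 S U hU
    have hb := base_half S hi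
    have hf := fixed_half S hi hU
    exact Or.inl (wc_of_half S hi hidx
      (H55.U6C.wc_of_fixed2 hb (H55.U6C.Fx.wcj_fixed hb hf) hf))

end core

variable {G : Type u} [Group G] [Finite G] {F : Type v} [Field F] [Fintype F] {z a : G}
  {J H₀ : Subgroup G} {π : ↥H₀ →* Cfsg.PSp 2 F}

theorem a_mem_ca : a ∈ Subgroup.centralizer ({a} : Set G) := Subgroup.mem_centralizer_singleton_iff.2 rfl

/-- The normal subgroup generated by `a` in its centraliser. -/
def kerA (a : G) : Subgroup ↥(Subgroup.centralizer ({a} : Set G)) := Subgroup.zpowers ⟨a, Subgroup.mem_centralizer_singleton_iff.2 rfl⟩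

theorem kerA_normal (a : G) : (kerA a).Normal :=
  ⟨fun n hn g => by
    obtain ⟨k, rfl⟩ := hn
    refine ⟨k, ?_⟩
    have : Commute g ⟨a, Subgroup.mem_centralizer_singleton_iff.2 rfl⟩ :=
      Subtype.ext (Subgroup.mem_centralizer_singleton_iff.1 g.2)
    show _ = g * _ * g⁻¹
    rw [(this.zpow_right k).eq, mul_inv_cancel_right]⟩

theorem mem_kerA (ha : a * a = 1) (g : ↥(Subgroup.centralizer ({a} : Set G))) : g ∈ kerA a ↔ ((g : G) = 1 ∨ (g : G) = a) := by
  constructor
  · rintro ⟨k, rfl⟩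
    show a ^ k = 1 ∨ a ^ k = a
    rcases Int.even_or_odd' k with ⟨m, rfl | rfl⟩
    · left; rw [zpow_mul, zpow_ofNat, pow_two, ha, one_zpow]
    · right; rw [zpow_add, zpow_mul, zpow_ofNat, pow_two, ha, one_zpow, one_mul, zpow_one]
  · rintro (h | h)
    · exact (show g = 1 from Subtype.ext h) ▸ Subgroup.one_mem _
    · exact (show g = ⟨a, Subgroup.mem_centralizer_singleton_iff.2 rfl⟩ from Subtype.ext h) ▸
        Subgroup.mem_zpowers _

/-- Only `H₀` fixes `a` if something exchanges `a` and `az`. -/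
theorem mem_H₀_of_swap (S : Setup3 z a J H₀ π) (hsw : Swap z a) {g : G} (hg : g ∈ Subgroup.centralizer ({z} : Set G))
    (hga : g ∈ Subgroup.centralizer ({a} : Set G)) : g ∈ H₀ := by
  by_contra hn
  obtain ⟨s, hs, hsa⟩ := hsw
  have hsa' : s * a * s⁻¹ ≠ a := fun e => by
    rw [hsa] at e
    exact S.ne_one (mul_eq_left.1 e)
  have hsn : s ∉ H₀ := fun h => hsa' (by rw [← (S.a_H₀ s h).eq, mul_inv_cancel_right])
  have h1 := S.out_mul s hs g hg hsn hn
  have h2 : Commute a (s * g) := S.a_H₀ _ h1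
  have hga' : Commute a g := (Subgroup.mem_centralizer_singleton_iff.1 hga).symm
  have h3 : Commute a s := by
    have := h2.mul_right hga'.inv_right
    rwa [mul_inv_cancel_right] at this
  exact hsa' (by rw [← h3.eq, mul_inv_cancel_right])

theorem dichS : DichSStmt.{u, v, w} := by
  intro G _ _ F _ _ K _ _ hK z a J H₀ π S hsw
  haveI := kerA_normal a
  let f := QuotientGroup.mk' (kerA a)
  have hs : Function.Surjective f := QuotientGroup.mk'_surjective _
  have hk : ∀ g, f g = 1 ↔ ((g : G) = 1 ∨ (g : G) = a) := fun g =>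
    (QuotientGroup.eq_one_iff g).trans (mem_kerA S.a_sq g)
  have hcent : Subgroup.centralizer ({f (zA S)} : Set (↥(Subgroup.centralizer ({a} : Set G)) ⧸ kerA a)) = im f H₀ := by
    rw [im_cent S hs hk]
    refine le_antisymm ?_ (im_mono f S.le_cent)
    rintro _ ⟨x, hx, rfl⟩
    exact ⟨x, mem_H₀_of_swap S hsw hx x.2, rfl⟩
  obtain ⟨π', hπs, hπk⟩ := exists_proj S hk
  obtain ⟨hc1, hc2, hc3, hc4, hc5⟩ := core_image S hs hk
  have hB : H38.U6C.Base (f (zA S)) (im f J)
      (π'.comp (MulEquiv.subgroupCongr hcent).toMonoidHom) :=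
    ⟨S.card_F, zA_sq S, zA_ne S hk, fun p hp => hcent ▸ im_mono f S.J_le hp,
      ⟨zA S, S.z_mem, rfl⟩, card_im_J S hs hk, hc1, hc2, hc3, hc4, hc5,
      hπs.comp (MulEquiv.subgroupCongr hcent).surjective, fun g => hπk _,
      hcent ▸ card_im_H₀ S hs hk⟩
  rcases of_base hB hK with h | ⟨⟨iso⟩⟩
  · exact Or.inl (dead_of_wc S hs hk h)
  · exact Or.inr ⟨iso.toMonoidHom.comp f, iso.surjective.comp hs, fun g => by
      rw [MonoidHom.comp_apply, MulEquiv.coe_toMonoidHom, map_eq_one_iff _ iso.injective, hk]⟩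

theorem dichN : DichNStmt.{u, v, w} := by
  intro G _ _ F _ _ K _ _ hK z a J H₀ π S hns
  haveI := kerA_normal a
  let f := QuotientGroup.mk' (kerA a)
  have hs : Function.Surjective f := QuotientGroup.mk'_surjective _
  have hk : ∀ g, f g = 1 ↔ ((g : G) = 1 ∨ (g : G) = a) := fun g =>
    (QuotientGroup.eq_one_iff g).trans (mem_kerA S.a_sq g)
  have hle : (Subgroup.centralizer ({z} : Set G)) ≤ Subgroup.centralizer ({a} : Set G) := fun g hg => Subgroup.mem_centralizer_singleton_iff.2 (hns g hg).eq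
  have hcent := im_cent S hs hk
  have hH : a ∈ H₀ := S.J_le S.a_mem
  obtain ⟨π', hπs, hπk⟩ := exists_proj S hk
  obtain ⟨hc1, hc2, hc3, hc4, hc5⟩ := core_image S hs hk
  have hS : H2.U6E.Setup (f (zA S)) (im f J) (im f H₀) π' :=
    { card_F := S.card_F
      sq := zA_sq S
      ne_one := zA_ne S hk
      le_cent := hcent ▸ im_mono f S.le_cent
      J_le := im_mono f S.J_le
      z_mem := ⟨zA S, S.z_mem, rfl⟩
      card_J := card_im_J S hs hk
      conj_mem := hc1
      conj_H₀ := by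
        rw [hcent]
        rintro _ ⟨x, hx, rfl⟩ _ ⟨h, hh, rfl⟩
        exact ⟨x * h * x⁻¹, S.conj_H₀ _ hx _ hh, by simp⟩
      out_mul := by
        rw [hcent]
        rintro _ ⟨x, hx, rfl⟩ _ ⟨y, hy, rfl⟩ hxn hyn
        rw [mem_im S hk hH] at hxn hyn
        rw [← map_mul, mem_im S hk hH]
        exact S.out_mul _ hx _ hy hxn hyn
      sq_mem := hc2
      comm_mem := hc3
      center := hc4
      self_cent := hc5
      inner := by
        rw [hcent]
        rintro _ ⟨x, hx, rfl⟩ hc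
        refine (mem_im S hk hH x).2 (S.inner _ hx fun h hh => ?_)
        have := hc (f ⟨h, H₀_le_ca S hh⟩) ⟨_, hh, rfl⟩
        rw [← map_inv, ← map_inv, ← map_mul, ← map_mul, ← map_mul, mem_im S hk S.a_mem] at this
        exact this
      π_surj := hπs
      π_ker := hπk
      card_cent := by
        have := card_im S hs hk (J_cent S S.a_mem) hle
        rw [S.card_cent] at this
        rw [hcent]
        omega
      card_H₀ := card_im_H₀ S hs hk
      card_psp := S.card_psp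
      simple_psp := S.simple_psp }
  rcases of_setup hS hK with h | ⟨G₀, hidx, hi, ⟨iso⟩⟩
  · exact Or.inl (dead_of_wc S hs hk h)
  refine Or.inr ⟨(G₀.comap f).map (Subgroup.centralizer ({a} : Set G)).subtype, ?_, ?_, ?_, ?_⟩
  · rintro _ ⟨x, -, rfl⟩
    exact x.2
  · have e : ((G₀.comap f).map (Subgroup.centralizer ({a} : Set G)).subtype).subgroupOf (Subgroup.centralizer ({a} : Set G)) = G₀.comap f :=
      Subgroup.comap_map_eq_self_of_injective Subtype.val_injective _
    rw [e, Subgroup.index_comap_of_surjective _ hs, hidx]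
  · ext g
    constructor
    · rintro ⟨⟨x, hx, rfl⟩, hgz⟩
      exact (mem_im S hk hH x).1 (hi ▸ ⟨hx, hcent ▸ ⟨x, hgz, rfl⟩⟩)
    · intro hg
      refine ⟨⟨⟨g, H₀_le_ca S hg⟩, ?_, rfl⟩, S.le_cent hg⟩
      have : f ⟨g, H₀_le_ca S hg⟩ ∈ im f H₀ := ⟨_, hg, rfl⟩
      rw [← hi] at this
      exact this.1
  · let e := (G₀.comap f).equivMapOfInjective (Subgroup.centralizer ({a} : Set G)).subtype Subtype.val_injective
    let q : ↥(G₀.comap f) →* ↥G₀ := f.subgroupComap G₀
    have hq : Function.Surjective q := fun y => by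
      obtain ⟨x, hx⟩ := hs y
      exact ⟨⟨x, show f x ∈ G₀ from hx ▸ y.2⟩, Subtype.ext hx⟩
    refine ⟨(iso.toMonoidHom.comp q).comp e.symm.toMonoidHom,
      (iso.surjective.comp hq).comp e.symm.surjective, fun g => ?_⟩
    obtain ⟨x, rfl⟩ := e.surjective g
    simp only [MonoidHom.comp_apply, MulEquiv.coe_toMonoidHom, MulEquiv.symm_apply_apply,
      map_eq_one_iff _ iso.injective]
    exact Subtype.ext_iff.trans (hk x.1)

end H38.Fi22C
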