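import Cfsg.Agent.H38.Fi22C.NonConj

/-!
Without an element exchanging them, `a` and `az` are not conjugate: both are central in a Sylow
2-subgroup of `G` inside `C(z)`.
-/

set_option autoImplicit false

namespace H38.Fi22C

open H39.Fi22C

universe u v

variable {G : Type u} [Group G] [Finite G] {F : Type v} [Field F] [Fintype F] {z a : G}
  {J H₀ : Subgroup G} {π : ↥H₀ →* Cfsg.PSp 2 F}

/-- A conjugate of `z` in `C(z)` centralising the core is `z`. -/
theorem eq_z_of_cent (S : Setup3 z a J H₀ π) {q : G}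
    (hq : q * z * q⁻¹ ∈ Subgroup.centralizer ({z} : Set G))
    (hc : ∀ j ∈ J, Commute (q * z * q⁻¹) j) : q * z * q⁻¹ = z := by
  have hJ := S.self_cent _ hq hc
  rcases S.center _ hJ hc with h | h | h | h
  · exact absurd (conj_eq_one_iff.1 h) S.ne_one
  · exact h
  · exact absurd h (not_conj_za S q)
  · exact absurd h (not_conj_zaz S q)

/-- A Sylow 2-subgroup of `G` lies in `C(z)` and contains the core. -/
theorem exists_sylow (S : Setup3 z a J H₀ π) :
    ∃ P : Sylow 2 G, (P : Subgroup G) ≤ Subgroup.centralizer ({z} : Set G) ∧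
      J ≤ (P : Subgroup G) := by
  haveI : Fact (Nat.Prime 2) := ⟨Nat.prime_two⟩
  let T : Sylow 2 ↥(Subgroup.centralizer ({z} : Set G)) := default
  obtain ⟨P, hP⟩ :=
    (T.2.map (Subgroup.centralizer ({z} : Set G)).subtype).exists_le_sylow
  have hJT : J ≤ (T : Subgroup ↥(Subgroup.centralizer ({z} : Set G))).map
      (Subgroup.centralizer ({z} : Set G)).subtype := by
    conv_lhs => rw [S.core]
    exact Subgroup.map_mono (H1.pCore_le_sylow T)
  refine ⟨P, ?_, hJT.trans hP⟩
  set R : Subgroup ↥(P : Subgroup G) :=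
    (Subgroup.centralizer ({z} : Set G)).subgroupOf (P : Subgroup G) with hR
  haveI := P.2.isNilpotent
  intro p hp
  by_contra hpn
  have hlt : R < ⊤ := lt_top_iff_ne_top.2 fun htop =>
    hpn (show (⟨p, hp⟩ : ↥(P : Subgroup G)) ∈ R from htop ▸ Subgroup.mem_top _)
  obtain ⟨q, hq, hqR⟩ := SetLike.exists_of_lt (Group.normalizerCondition_of_isNilpotent R hlt)
  have hzP : z ∈ (P : Subgroup G) := hP (hJT S.z_mem)
  have hzR : (⟨z, hzP⟩ : ↥(P : Subgroup G)) ∈ R := Subgroup.mem_centralizer_singleton_iff.2 rfl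
  have hqz := (Subgroup.mem_normalizer_iff.1 hq _).1 hzR
  have he := eq_z_of_cent S (q := (q : G)) hqz fun j hj => by
    have hjR : (⟨j, hP (hJT hj)⟩ : ↥(P : Subgroup G)) ∈ R := J_cent S hj
    have h1 := (Subgroup.mem_normalizer_iff''.1 hq _).1 hjR
    have h2 : Commute z ((q : G)⁻¹ * j * q) :=
      (Subgroup.mem_centralizer_singleton_iff.1 h1).symm
    have h3 := h2.map (MulAut.conj (q : G)).toMonoidHom
    simpa [mul_assoc] using h3
  rw [mul_inv_eq_iff_eq_mul] at he
  exact hqR (Subgroup.mem_centralizer_singleton_iff.2 he)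

/-- Without swap `a` and `az` are not conjugate. -/
theorem not_conj_aaz (S : Setup3 z a J H₀ π) (hns : NoSwap z a) (g : G) :
    g * a * g⁻¹ ≠ a * z := by
  intro hg
  haveI : Fact (Nat.Prime 2) := ⟨Nat.prime_two⟩
  obtain ⟨P, hPC, hJP⟩ := exists_sylow S
  have hza : ∀ x ∈ (P : Subgroup G), Commute x (a * z) := fun x hx =>
    (hns x (hPC hx)).mul_right (Subgroup.mem_centralizer_singleton_iff.1 (hPC hx))
  obtain ⟨n, hn, he⟩ := P.conj_eq_normalizer_conj_of_mem_centralizer a g⁻¹
    (Subgroup.mem_centralizer_iff.2 fun x hx => (hns x (hPC hx)).eq)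
    (Subgroup.mem_centralizer_iff.2 fun x hx => by rw [inv_inv, hg]; exact (hza x hx).eq)
  rw [inv_inv, hg] at he
  have hz : n⁻¹ * z * n⁻¹⁻¹ = z := by
    have hzP : n⁻¹ * z * n⁻¹⁻¹ ∈ (P : Subgroup G) := by
      simpa using (Subgroup.mem_normalizer_iff''.1 hn z).1 (hJP S.z_mem)
    refine eq_z_of_cent S (hPC hzP) fun j hj => ?_
    have h1 : n * j * n⁻¹ ∈ (P : Subgroup G) :=
      (Subgroup.mem_normalizer_iff.1 hn j).1 (hJP hj)
    have h2 : Commute z (n * j * n⁻¹) :=
      (Subgroup.mem_centralizer_singleton_iff.1 (hPC h1)).symm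
    have h3 := h2.map (MulAut.conj n⁻¹).toMonoidHom
    simpa [mul_assoc] using h3
  rw [mul_inv_eq_iff_eq_mul] at hz
  have hnC : n⁻¹ ∈ Subgroup.centralizer ({z} : Set G) :=
    Subgroup.mem_centralizer_singleton_iff.2 hz
  have := (hns _ hnC).eq
  rw [this, mul_assoc, inv_mul_cancel, mul_one] at he
  exact S.ne_one (mul_eq_left.1 he)

end H38.Fi22C
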