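import Cfsg.Agent.H38.Fi22C.NonConj
import Cfsg.Agent.H2.U6E.Setup

/-!
The centraliser of `a` modulo `⟨a⟩`: the image of `z` has centraliser the image of the part of
`C(z)` fixing `a`, and its isolation gives `Dead`.
-/

set_option autoImplicit false
set_option linter.unusedSectionVars false

namespace H38.Fi22C

open H39.Fi22C

universe u v

variable {G : Type u} [Group G] [Finite G] {F : Type v} [Field F] [Fintype F] {z a : G}
  {J H₀ : Subgroup G} {π : ↥H₀ →* Cfsg.PSp 2 F}

/-- The image in `Q` of a subgroup of `G`. -/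
def im {Q : Type u} [Group Q] (f : ↥(Subgroup.centralizer ({a} : Set G)) →* Q) (P : Subgroup G) : Subgroup Q :=
  (P.subgroupOf (Subgroup.centralizer ({a} : Set G))).map f

theorem im_mono {Q : Type u} [Group Q] (f : ↥(Subgroup.centralizer ({a} : Set G)) →* Q) {P P' : Subgroup G} (h : P ≤ P') :
    im f P ≤ im f P' :=
  Subgroup.map_mono fun _ hx => h hx

variable (S : Setup3 z a J H₀ π) {Q : Type u} [Group Q] {f : ↥(Subgroup.centralizer ({a} : Set G)) →* Q}
  (hs : Function.Surjective f) (hk : ∀ g, f g = 1 ↔ ((g : G) = 1 ∨ (g : G) = a))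

include S

theorem z_mem_ca : z ∈ Subgroup.centralizer ({a} : Set G) := H₀_le_ca S (S.J_le S.z_mem)

/-- `z` as an element of the centraliser of `a`. -/
def zA : ↥(Subgroup.centralizer ({a} : Set G)) := ⟨z, z_mem_ca S⟩

theorem zA_sq : f (zA S) * f (zA S) = 1 := by
  rw [← map_mul, show zA S * zA S = 1 from Subtype.ext S.sq, map_one]

include hk

theorem mem_im {P : Subgroup G} (haP : a ∈ P) (x : ↥(Subgroup.centralizer ({a} : Set G))) : f x ∈ im f P ↔ (x : G) ∈ P := by
  refine ⟨?_, fun h => ⟨x, h, rfl⟩⟩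
  rintro ⟨y, hy, hyx⟩
  have h1 : f (y⁻¹ * x) = 1 := by rw [map_mul, map_inv, hyx, inv_mul_cancel]
  have hmem : ((y⁻¹ * x : ↥(Subgroup.centralizer ({a} : Set G))) : G) ∈ P := by
    rcases (hk _).1 h1 with h | h <;> rw [h]
    exacts [P.one_mem, haP]
  have := P.mul_mem hy hmem
  simpa using this

theorem zA_ne : f (zA S) ≠ 1 := fun h => by
  rcases (hk _).1 h with h' | h'
  exacts [S.ne_one h', S.a_out.2 h'.symm]

/-- The centraliser of the image of `z`. -/
theorem comm_image (x : ↥(Subgroup.centralizer ({a} : Set G))) : Commute (f x) (f (zA S)) ↔ (x : G) ∈ Subgroup.centralizer ({z} : Set G) := by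
  constructor
  · intro h
    have h1 : f (x * zA S * x⁻¹ * (zA S)⁻¹) = 1 := by
      simp only [map_mul, map_inv, h.eq]; group
    have e : ((x * zA S * x⁻¹ * (zA S)⁻¹ : ↥(Subgroup.centralizer ({a} : Set G))) : G) =
        (x : G) * z * (x : G)⁻¹ * z⁻¹ := rfl
    rcases (hk _).1 h1 with h' | h' <;> rw [e, mul_inv_eq_iff_eq_mul] at h'
    · rw [one_mul, mul_inv_eq_iff_eq_mul] at h'
      exact Subgroup.mem_centralizer_singleton_iff.2 h'
    · exact absurd h' (not_conj_zaz S x)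
  · intro h
    exact (Commute.map (show Commute x (zA S) from
      Subtype.ext (Subgroup.mem_centralizer_singleton_iff.1 h)) f)

include hs in
theorem im_cent : Subgroup.centralizer ({f (zA S)} : Set Q) = im f (Subgroup.centralizer ({z} : Set G)) := by
  ext y
  obtain ⟨x, rfl⟩ := hs y
  rw [Subgroup.mem_centralizer_singleton_iff]
  rw [mem_im S hk (J_cent S S.a_mem) x]
  exact comm_image S hk x

include hs in
/-- The image has half the order. -/
theorem card_im {P : Subgroup G} (haP : a ∈ P) (hP : P ≤ Subgroup.centralizer ({a} : Set G)) :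
    Nat.card P = 2 * Nat.card (im f P) := by
  let q : ↥P →* ↥(im f P) :=
    (f.comp (Subgroup.inclusion hP)).codRestrict (im f P) fun p => ⟨_, p.2, rfl⟩
  have hq : Function.Surjective q := by
    rintro ⟨_, x, hx, rfl⟩
    exact ⟨⟨x, hx⟩, rfl⟩
  have hker : Nat.card q.ker = 2 := by
    rw [Nat.card_eq_two_iff]
    refine ⟨1, ⟨⟨a, haP⟩, Subtype.ext ((hk ⟨a, hP haP⟩).2 (Or.inr rfl))⟩, fun h => ?_, ?_⟩
    · exact S.a_out.1 (congrArg (fun t : ↥q.ker => ((t : ↥P) : G)) h).symm
    · refine Set.eq_univ_of_forall fun x => ?_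
      have : f (Subgroup.inclusion hP x.1) = 1 := congrArg Subtype.val x.2
      rcases (hk _).1 this with h | h
      · exact Or.inl (Subtype.ext (Subtype.ext h))
      · exact Or.inr (Subtype.ext (Subtype.ext h))
  rw [Subgroup.card_eq_card_quotient_mul_card_subgroup q.ker,
    Nat.card_congr (QuotientGroup.quotientKerEquivOfSurjective q hq).toEquiv, hker, mul_comm]

include hs in
theorem card_im_J : Nat.card (im f J) = 2 ^ 9 := by
  have := card_im S hs hk S.a_mem fun j hj => H₀_le_ca S (S.J_le hj)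
  rw [S.card_J] at this
  omega

include hs in
theorem card_im_H₀ : Nat.card (im f H₀) = 2 ^ 9 * 25920 := by
  have := card_im S hs hk (S.J_le S.a_mem) (H₀_le_ca S)
  rw [S.card_H₀] at this
  omega

/-- The projection of the image of `H₀`. -/
theorem exists_proj : ∃ π' : ↥(im f H₀) →* Cfsg.PSp 2 F, Function.Surjective π' ∧
    ∀ y : ↥(im f H₀), π' y = 1 ↔ (y : Q) ∈ im f J := by
  classical
  let q : ↥H₀ →* ↥(im f H₀) :=
    (f.comp (Subgroup.inclusion (H₀_le_ca S))).codRestrict (im f H₀) fun p => ⟨_, p.2, rfl⟩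
  have hq : Function.Surjective q := by
    rintro ⟨_, x, hx, rfl⟩
    exact ⟨⟨x, hx⟩, rfl⟩
  have hle : q.ker ≤ π.ker := fun h hh => by
    have : f (Subgroup.inclusion (H₀_le_ca S) h) = 1 := congrArg Subtype.val hh
    refine (S.π_ker h).2 ?_
    rcases (hk _).1 this with e | e <;> rw [Subgroup.coe_inclusion] at e <;> rw [e]
    exacts [J.one_mem, S.a_mem]
  refine ⟨q.liftOfSurjective hq ⟨π, hle⟩, fun p => ?_, fun y => ?_⟩
  · obtain ⟨h, rfl⟩ := S.π_surj p
    exact ⟨q h, MonoidHom.liftOfRightInverse_comp_apply q _ _ ⟨π, hle⟩ h⟩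
  · obtain ⟨h, rfl⟩ := hq y
    rw [show q.liftOfSurjective hq ⟨π, hle⟩ (q h) = π h from
      MonoidHom.liftOfRightInverse_comp_apply q _ _ ⟨π, hle⟩ h]
    exact (S.π_ker h).trans (mem_im S hk S.a_mem (Subgroup.inclusion (H₀_le_ca S) h)).symm

include hs

/-- Properties of the image of the core. -/
theorem core_image :
    (∀ g ∈ Subgroup.centralizer ({f (zA S)} : Set Q), ∀ p ∈ im f J, g * p * g⁻¹ ∈ im f J) ∧
    (∀ p ∈ im f J, p * p = 1 ∨ p * p = f (zA S)) ∧
    (∀ p ∈ im f J, ∀ q ∈ im f J, p * q = q * p ∨ p * q = q * p * f (zA S)) ∧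
    (∀ p ∈ im f J, (∀ q ∈ im f J, Commute p q) → p = 1 ∨ p = f (zA S)) ∧
    ∀ g ∈ Subgroup.centralizer ({f (zA S)} : Set Q), (∀ p ∈ im f J, Commute g p) →
      g ∈ im f J := by
  refine ⟨?_, ?_, ?_, ?_, ?_⟩
  · rw [im_cent S hs hk]
    rintro _ ⟨x, hx, rfl⟩ _ ⟨j, hj, rfl⟩
    exact ⟨x * j * x⁻¹, S.conj_mem _ hx _ hj, by simp⟩
  · rintro _ ⟨j, hj, rfl⟩
    rw [← map_mul]
    rcases S.sq_mem _ hj with h | h
    · left; rw [show j * j = 1 from Subtype.ext h, map_one]
    · right; rw [show j * j = zA S from Subtype.ext h]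
  · rintro _ ⟨i, hi, rfl⟩ _ ⟨j, hj, rfl⟩
    simp only [← map_mul]
    rcases S.comm_mem _ hi _ hj with h | h
    · left; rw [show i * j = j * i from Subtype.ext h]
    · right; rw [show i * j = j * i * zA S from Subtype.ext h]
  · rintro _ ⟨i, hi, rfl⟩ hc
    have hall : ∀ q ∈ J, Commute (i : G) q := fun q hq => by
      rcases S.comm_mem _ hi q hq with h | h
      · exact h
      exfalso
      let j : ↥(Subgroup.centralizer ({a} : Set G)) := ⟨q, H₀_le_ca S (S.J_le hq)⟩
      have h1 := (hc (f j) ⟨j, hq, rfl⟩).eq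
      have h2 : f i * f j = f j * f i * f (zA S) := by
        rw [← map_mul, ← map_mul, ← map_mul, show i * j = j * i * zA S from Subtype.ext h]
      rw [h1] at h2
      exact zA_ne S hk (left_eq_mul.1 h2)
    rcases S.center _ hi hall with h | h | h | h
    · left; exact (hk _).2 (Or.inl h)
    · right; rw [show i = zA S from Subtype.ext h]
    · left; exact (hk _).2 (Or.inr h)
    · right
      have : i = ⟨a, H₀_le_ca S (S.J_le S.a_mem)⟩ * zA S := Subtype.ext h
      rw [this, map_mul, (hk _).2 (Or.inr rfl), one_mul]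
  · rw [im_cent S hs hk]
    rintro _ ⟨x, hx, rfl⟩ hc
    refine (mem_im S hk S.a_mem x).2 (trivMod_le S ⟨hx, fun j hj => ?_⟩)
    let jj : ↥(Subgroup.centralizer ({a} : Set G)) := ⟨j, H₀_le_ca S (S.J_le hj)⟩
    have h1 : f (x * jj * x⁻¹ * jj⁻¹) = 1 := by
      simp only [map_mul, map_inv, (hc (f jj) ⟨jj, hj, rfl⟩).eq]; group
    rcases (hk _).1 h1 with h | h
    exacts [Or.inl h, Or.inr (Or.inr (Or.inl h))]

/-- An isolated image of `z` makes the side dead. -/
theorem dead_of_wc (h : H38.U6C.WC (f (zA S))) : Dead z a := by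
  have h1 : ∀ g : G, Commute g a → Commute (g * z * g⁻¹) z → g * z * g⁻¹ = z := fun g hg hc => by
    let x : ↥(Subgroup.centralizer ({a} : Set G)) := ⟨g, Subgroup.mem_centralizer_singleton_iff.2 hg.eq⟩
    have e : ((x * zA S * x⁻¹ : ↥(Subgroup.centralizer ({a} : Set G))) : G) = g * z * g⁻¹ := rfl
    have h2 := h (f (x * zA S * x⁻¹)) (Subgroup.mem_centralizer_singleton_iff.2
      ((comm_image S hk _).2 (Subgroup.mem_centralizer_singleton_iff.2 (e ▸ hc.eq))).eq)
      (f.map_isConj (isConj_iff.2 ⟨x, rfl⟩))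
    have h3 : f (x * zA S * x⁻¹ * (zA S)⁻¹) = 1 := by
      rw [map_mul, map_inv, h2, mul_inv_cancel]
    have e2 : ((x * zA S * x⁻¹ * (zA S)⁻¹ : ↥(Subgroup.centralizer ({a} : Set G))) : G) = g * z * g⁻¹ * z⁻¹ := rfl
    rcases (hk _).1 h3 with h' | h' <;> rw [e2, mul_inv_eq_iff_eq_mul] at h'
    · rwa [one_mul] at h'
    · exact absurd h' (not_conj_zaz S g)
  refine ⟨h1, fun P hP hPa hzP p hp => ?_⟩
  haveI : Fact (Nat.Prime 2) := ⟨Nat.prime_two⟩
  let Z := Subgroup.zpowers z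
  have hZ2 : IsPGroup 2 Z := by
    intro g
    obtain ⟨g, k, rfl⟩ := g
    refine ⟨1, Subtype.ext ?_⟩
    show (z ^ k) ^ (2 ^ 1) = 1
    rw [pow_one, ← zpow_natCast, ← zpow_mul, mul_comm, zpow_mul, zpow_natCast, pow_two, S.sq,
      one_zpow]
  have hnorm : Z ≤ Subgroup.normalizer P := by
    refine Subgroup.zpowers_le.2 (Subgroup.mem_normalizer_iff.2 fun x => ⟨hzP x, fun hx => ?_⟩)
    have := hzP _ hx
    rw [inv_eq_of_mul_eq_one_right S.sq] at this
    simpa only [mul_assoc, S.sq, mul_one, ← mul_assoc z z, one_mul] using this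
  have hQ : IsPGroup 2 ↥(Z ⊔ P) := hZ2.to_sup_of_normal_right' hP hnorm
  have hQa : ∀ q ∈ Z ⊔ P, Commute q a := by
    intro q hq
    have hle : Z ⊔ P ≤ Subgroup.centralizer ({a} : Set G) := sup_le (Subgroup.zpowers_le.2 (z_mem_ca S))
      fun p hp => Subgroup.mem_centralizer_singleton_iff.2 (hPa p hp).eq
    exact Subgroup.mem_centralizer_singleton_iff.1 (hle hq)
  haveI := hQ.isNilpotent
  set R : Subgroup ↥(Z ⊔ P) := (Subgroup.centralizer ({z} : Set G)).subgroupOf (Z ⊔ P) with hR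
  by_contra hne
  have hlt : R < ⊤ := lt_top_iff_ne_top.2 fun htop => by
    have : (⟨p, Subgroup.mem_sup_right hp⟩ : ↥(Z ⊔ P)) ∈ R := htop ▸ Subgroup.mem_top _
    exact hne (Subgroup.mem_centralizer_singleton_iff.1 this).symm
  obtain ⟨q, hq, hqR⟩ := SetLike.exists_of_lt (Group.normalizerCondition_of_isNilpotent R hlt)
  have hzR : (⟨z, Subgroup.mem_sup_left (Subgroup.mem_zpowers z)⟩ : ↥(Z ⊔ P)) ∈ R :=
    Subgroup.mem_centralizer_singleton_iff.2 rfl
  have hqz := (Subgroup.mem_normalizer_iff.1 hq _).1 hzR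
  have heq := h1 q (hQa q q.2) (Subgroup.mem_centralizer_singleton_iff.1 hqz)
  rw [mul_inv_eq_iff_eq_mul] at heq
  exact hqR (Subgroup.mem_centralizer_singleton_iff.2 heq)

end H38.Fi22C
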